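import Cfsg.Agent.H16.NunLarge
import Cfsg.Agent.KFacts.FiTF.RQ
import Cfsg.Agent.KFacts.FiTF.FrameF
import Cfsg.Prelude.Def_Spor_Fi24
import Cfsg.Agent.Lib.ListFast
import Cfsg.Agent.FastGrp
import Cfsg.Agent.Prune
set_option linter.all false
prune_inst 0x7f00000000000000000000000000000000000000000000000000000000000000000000000000000000000000000000000000000000000000000000000000000000000000000000000000000000000000003fffffffffffffffffffffffffffbeffbdffffffff
open scoped Cfsg.Agent.FastGrp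

-- part: H16/NunLine
section
/-!
# `NUN` from a large extraspecial subgroup, second form (helper16)

`nun_core`: `Q` large irreducible, `C(z)` of odd index, `W` a 2-subgroup of `C(z)`; every subgroup `F₀` of `Q` containing
`z` and another element `≠ 1`, all of whose elements are fixed by `W` modulo `z`, has a normalising element moving `z`.
`nun_of_line`: the elements fixed by `W` modulo `z` lie in a subgroup `T` of order 8.
-/

set_option autoImplicit false

namespace Cfsg.Agent.H16.NunLarge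

open Subgroup Cfsg Cfsg.Agent.QTUnique Cfsg.Agent.UniqLoc Cfsg.Agent.Co2Type.Quad Cfsg.Agent.KFacts.LargeO2

variable {G : Type*} [Group G] {Q : Subgroup G} {z : G}

theorem nun_core [Finite G] (h : Large Q z) (hirr : Irr Q z)
    (hodd : ¬ 2 ∣ (centralizer ({z} : Set G)).index) {W : Subgroup G} (hW : IsPGroup 2 W)
    (hWz : ∀ w ∈ W, w * z = z * w) (hQne : ∃ x ∈ Q, x ≠ 1 ∧ x ≠ z)
    (H : ∀ F₀ : Subgroup G, F₀ ≤ Q → z ∈ F₀ → (∃ x ∈ F₀, x ≠ 1 ∧ x ≠ z) →
      (∀ x ∈ F₀, ∀ w ∈ W, w * x * w⁻¹ = x ∨ w * x * w⁻¹ = x * z) →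
      ∃ n : G, (∀ x ∈ F₀, n * x * n⁻¹ ∈ F₀) ∧ n * z * n⁻¹ ≠ z) : NUN G := by
  have hp2 : Fact (Nat.Prime 2) := ⟨Nat.prime_two⟩
  have hQ2 := isPGroup_Q h
  have hWn : W ≤ normalizer (Q : Set G) := by
    intro w hw
    exact Second.mem_normalizer_of_conj fun u hu => h.conj_mem w (hWz w hw) u hu
  have hQW : IsPGroup 2 ((W ⊔ Q : Subgroup G)) := hW.to_sup_of_normal_right' hQ2 hWn
  have hQWz : W ⊔ Q ≤ centralizer ({z} : Set G) :=
    sup_le (fun w hw => mem_centralizer_singleton_iff.2 (hWz w hw))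
      (fun w hw => mem_centralizer_singleton_iff.2 (h.comm_z w hw))
  obtain ⟨S, hS1, hS2⟩ := exists_sylow_between hodd hQW hQWz
  have hQS : Q ≤ S := le_sup_right.trans hS1
  have hWS : W ≤ S := le_sup_left.trans hS1
  have hSc : ∀ x ∈ (S : Subgroup G), x * z = z * x := fun x hx => mem_centralizer_singleton_iff.1 (hS2 hx)
  have hzS : z ∈ (S : Subgroup G) := hQS h.z_mem
  have hZ : ∀ t ∈ (S : Subgroup G), (∀ x ∈ (S : Subgroup G), x * t = t * x) → t = 1 ∨ t = z := by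
    intro t _ ht
    have htz := (ht z hzS).symm
    have htQ : ∀ x ∈ Q, t * x = x * t := fun x hx => (ht x (hQS hx)).symm
    exact h.cent t (h.self t htz htQ) htQ
  have hSz : normalizer ((S : Subgroup G) : Set G) ≤ centralizer ({z} : Set G) :=
    UniqSheet.normalizer_le_centralizer h.z_ne hzS hSc hZ
  set E := fixQ h ((S : Subgroup G) : Set G) with hE
  have hzE : z ∈ E := ⟨h.z_mem, fun w hw => Or.inl (by rw [hSc w hw, mul_inv_cancel_right])⟩
  have hxE : ∃ x ∈ E, x ≠ 1 ∧ x ≠ z := by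
    obtain ⟨x, hxQ, hx1, hxz, hx⟩ := exists_fix h hQne S.isPGroup' hSc
    exact ⟨x, ⟨hxQ, hx⟩, hx1, hxz⟩
  have hE2 : IsPGroup 2 E := hQ2.to_le fun x hx => hx.1
  have hE1 : E ≠ ⊥ := fun h1 => h.z_ne (by rw [h1] at hzE; exact mem_bot.1 hzE)
  have hSE : normalizer ((S : Subgroup G) : Set G) ≤ normalizer (E : Set G) := by
    intro g hg
    have hgz : g * z = z * g := mem_centralizer_singleton_iff.1 (hSz hg)
    apply Second.mem_normalizer_of_conj
    rintro x ⟨hxQ, hx⟩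
    refine ⟨h.conj_mem g hgz x hxQ, fun w hw => ?_⟩
    have hw' : g⁻¹ * w * g ∈ (S : Subgroup G) := by
      have := (mem_normalizer_iff.1 (inv_mem hg) w).1 hw
      rwa [inv_inv] at this
    have e : w * (g * x * g⁻¹) * w⁻¹ = g * ((g⁻¹ * w * g) * x * (g⁻¹ * w * g)⁻¹) * g⁻¹ := by group
    rw [e]
    rcases hx _ hw' with h1 | h1
    · left; rw [h1]
    · right
      rw [h1]
      have hg' : z * g⁻¹ = g⁻¹ * z := by
        rw [eq_inv_mul_iff_mul_eq, ← mul_assoc, hgz, mul_assoc, mul_inv_cancel, mul_one]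
      calc g * (x * z) * g⁻¹ = g * x * (z * g⁻¹) := by group
        _ = g * x * g⁻¹ * z := by rw [hg']; group
  obtain ⟨n, hn1, hn2⟩ := H E (fun x hx => hx.1) hzE hxE fun x hx w hw => hx.2 w (hWS hw)
  refine UniqSheet.nun_of_large (R := Q) (E := E) h.z_ne h.z_sq S hSz hSE ?_ ?_ ?_ hE2 hE1 ?_
  · intro x hx
    have hxn : x ∈ normalizer (Q : Set G) := Second.mem_normalizer_of_conj hx
    have h3 : ∀ r ∈ Q, (x * z * x⁻¹) * r = r * (x * z * x⁻¹) := by
      intro r hr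
      have hmem : x⁻¹ * r * x ∈ Q := by
        have := (mem_normalizer_iff.1 (inv_mem hxn) r).1 hr
        rwa [inv_inv] at this
      have h5 := h.comm_z _ hmem
      calc x * z * x⁻¹ * r = x * (z * (x⁻¹ * r * x)) * x⁻¹ := by group
        _ = x * ((x⁻¹ * r * x) * z) * x⁻¹ := by rw [h5]
        _ = r * (x * z * x⁻¹) := by group
    rcases h.cent _ (hx _ h.z_mem) h3 with h4 | h4
    · exact absurd (conj_eq_one_iff.1 h4) h.z_ne
    · exact h4
  · intro B hB hBz hBn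
    exact Cfsg.Agent.KFacts.LargeO2.le_of_normal h hirr hQne hB (fun w hw => mem_centralizer_singleton_iff.1 (hBz hw))
      fun u hu w hw => hBn u (mem_centralizer_singleton_iff.2 hu) w hw
  · intro B hBQ hBn
    exact hirr B hBQ fun u hu b hb => hBn u (mem_centralizer_singleton_iff.2 hu) b hb
  · intro hle
    have h1 := mem_centralizer_singleton_iff.1 (hle (Second.mem_normalizer_of_conj hn1))
    apply hn2
    rw [h1, mul_inv_cancel_right]

/-- the fixed elements lie in a subgroup of order 8 -/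
theorem nun_of_line [Finite G] (h : Large Q z) (hirr : Irr Q z)
    (hodd : ¬ 2 ∣ (centralizer ({z} : Set G)).index) {W : Subgroup G} (hW : IsPGroup 2 W)
    (hWz : ∀ w ∈ W, w * z = z * w) (hQne : ∃ x ∈ Q, x ≠ 1 ∧ x ≠ z) {T : Subgroup G} (hT : Nat.card T = 8)
    (hfix : ∀ x ∈ Q, (∀ w ∈ W, w * x * w⁻¹ = x ∨ w * x * w⁻¹ = x * z) → x ∈ T)
    (hn : ∀ u ∈ T, u ≠ 1 → u ≠ z → ∃ n : G, (n * z * n⁻¹ = u ∨ n * z * n⁻¹ = u * z) ∧
      (n * u * n⁻¹ = z ∨ n * u * n⁻¹ = u ∨ n * u * n⁻¹ = u * z) ∧ ∀ t ∈ T, n * t * n⁻¹ ∈ T) : NUN G := by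
  refine nun_core h hirr hodd hW hWz hQne ?_
  rintro F₀ hQ hz ⟨u, hu, hu1, huz⟩ hfx
  have hFT : F₀ ≤ T := fun x hx => hfix x (hQ hx) (hfx x hx)
  obtain ⟨n, h1, h2, h3⟩ := hn u (hFT hu) hu1 huz
  have hzz := h.z_sq
  have huz' := h.comm_z u (hQ hu)
  refine ⟨n, ?_, ?_⟩
  · by_cases hall : ∀ x ∈ F₀, x = 1 ∨ x = z ∨ x = u ∨ x = u * z
    · have hnz : n * z * n⁻¹ ∈ F₀ := by
        rcases h1 with h1 | h1 <;> rw [h1]
        · exact hu
        · exact F₀.mul_mem hu hz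
      have hnu : n * u * n⁻¹ ∈ F₀ := by
        rcases h2 with h2 | h2 | h2 <;> rw [h2]
        · exact hz
        · exact hu
        · exact F₀.mul_mem hu hz
      intro x hx
      rcases hall x hx with rfl | rfl | rfl | rfl
      · rw [mul_one, mul_inv_cancel]; exact F₀.one_mem
      · exact hnz
      · exact hnu
      · have e : n * (u * z) * n⁻¹ = (n * u * n⁻¹) * (n * z * n⁻¹) := by group
        rw [e]
        exact F₀.mul_mem hnu hnz
    · push Not at hall
      obtain ⟨x, hx, hx1, hxz, hxu, hxuz⟩ := hall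
      have hcard : 4 < Nat.card F₀ := by
        classical
        have h5 : Set.ncard ({1, z, u, u * z, x} : Set G) = 5 := by
          rw [Set.ncard_insert_of_notMem, Set.ncard_insert_of_notMem, Set.ncard_insert_of_notMem,
            Set.ncard_insert_of_notMem, Set.ncard_singleton]
          · simpa using fun e => hxuz e.symm
          · simp only [Set.mem_insert_iff, Set.mem_singleton_iff, not_or]
            exact ⟨fun e => h.z_ne (mul_left_cancel (a := u) (by rw [mul_one, ← e])), fun e => hxu e.symm⟩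
          · simp only [Set.mem_insert_iff, Set.mem_singleton_iff, not_or]
            refine ⟨fun e => huz e.symm, fun e => hu1 ?_, fun e => hxz e.symm⟩
            exact mul_right_cancel (b := z) (by rw [one_mul, ← e])
          · simp only [Set.mem_insert_iff, Set.mem_singleton_iff, not_or]
            refine ⟨fun e => h.z_ne e.symm, fun e => hu1 e.symm, fun e => huz ?_, fun e => hx1 e.symm⟩
            exact mul_right_cancel (b := z) (by rw [← e, hzz])
        have h6 : ({1, z, u, u * z, x} : Set G) ⊆ (F₀ : Set G) := by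
          rintro y (rfl | rfl | rfl | rfl | rfl)
          · exact F₀.one_mem
          · exact hz
          · exact hu
          · exact F₀.mul_mem hu hz
          · exact hx
        have h7 := Set.ncard_le_ncard h6 (Set.toFinite _)
        rw [h5] at h7
        exact h7
      have hdvd : Nat.card F₀ ∣ 8 := by rw [← hT]; exact Subgroup.card_dvd_of_le hFT
      have h8 : Nat.card F₀ = 8 := by
        have h9 : Nat.card F₀ ≤ 8 := Nat.le_of_dvd (by norm_num) hdvd
        generalize Nat.card F₀ = m at *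
        interval_cases m
        · omega
        · omega
        · omega
        · rfl
      have h9 : F₀ = T := Subgroup.eq_of_le_of_card_ge hFT (by rw [hT, h8])
      rw [h9]
      exact h3
  · intro e
    rcases h1 with h1 | h1
    · exact huz (h1.symm.trans e)
    · apply hu1
      have h2 : u * z = z := h1.symm.trans e
      exact mul_right_cancel (b := z) (by rw [h2, one_mul])

end Cfsg.Agent.H16.NunLarge
end

-- part: H16/NunFi24A
section
/-!
# `NUN` for `Fi24'`, first part (helper16)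

In a group with `OrbSys.Sys`, the even product `u` of the `y t` along `wl` acts on `R/⟨z⟩` with order 8 and fixes exactly the
codes `0, 65, 130, 195`.
-/

set_option autoImplicit false
set_option linter.unusedSectionVars false

namespace Cfsg.Agent.H16.NunFiA

open Subgroup
open Cfsg.Agent.LargeExtra.Model Cfsg.Agent.LargeExtra.Pres Cfsg.Agent.KFacts.Codes
open Cfsg.Agent.KFacts.FiTF Cfsg.Agent.KFacts.FiTF.Lin Cfsg.Agent.KFacts.FiTF.Orb Cfsg.Agent.KFacts.FiTF.OrbSys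
open Cfsg.Agent.Lib.PermNet (seq seq_eq)

/-- the word, the first letter acts first -/
def wl : List ℕ := [3, 5, 1, 2, 4, 5, 3, 1, 2, 0, 1, 5, 4, 3, 5, 2, 1, 0]

/-- the images of the basis under the word -/
def ML : List ℕ := [1074, 2067, 2325, 3626, 3123, 1041, 1139, 2193, 64, 128, 1173, 2282]

noncomputable def lfw (l : List ℕ) : ℕ → ℕ :=
  List.rec (motive := fun _ => ℕ → ℕ) (fun c => c) (fun t _ ih c => seq (lf (YL t) c) ih) l

theorem lfw_cons (t : ℕ) (l : List ℕ) (c : ℕ) : lfw (t :: l) c = lfw l (lf (YL t) c) := by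
  show seq (lf (YL t) c) (lfw l) = _
  rw [seq_eq]

theorem ml_ok : ∀ i < 12, lfw wl (2 ^ i) = ML.getD i 0 := by decide +kernel

theorem ml_flag : ∀ i < 12, (ML.getD i 0 ^^^ 2 ^ 12) % 2 ^ 12 = ML.getD i 0 := by decide

theorem ml_lt : ∀ i < 12, ML.getD i 0 < 4096 := by decide

noncomputable def it (k : ℕ) : ℕ → ℕ :=
  Nat.rec (motive := fun _ => ℕ → ℕ) (fun c => c) (fun _ ih c => seq (lf ML c) ih) k

theorem it_succ (k c : ℕ) : it (k + 1) c = it k (lf ML c) := by
  show seq (lf ML c) (it k) = _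
  rw [seq_eq]

theorem it_ok : ∀ i < 12, it 8 (2 ^ i) = 2 ^ i := by decide +kernel

def inT (c : ℕ) : Bool := Nat.beq c 0 || (Nat.beq c 65 || (Nat.beq c 130 || Nat.beq c 195))

def fixCk (c : ℕ) : Bool := !(Nat.beq (lf ML c) c) || inT c

private noncomputable def _root_.Cfsg.Agent.LsF.f3da02c_0 : {f // @Cfsg.Agent.KFacts.FiTF.Orb.lf = f} := ⟨_, by first | (delta Cfsg.Agent.KFacts.FiTF.Orb.lf List.brecOn List.brecOn.go Cfsg.Agent.KFacts.FiTF.Orb.lf._f; rewrite [Cfsg.Agent.LsF.nmul_pat, Cfsg.Agent.LsF.ndiv_pat, Cfsg.Agent.LsF.nmod_pat, Cfsg.Agent.LsF.nxor_pat]; (try delta Cfsg.Agent.KFacts.FiTF.Orb.lf.match_1); (try delta List.casesOn); first | dsimp -zeta only | exact rfl) | exact rfl⟩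
private noncomputable def _root_.Cfsg.Agent.LsF.f3da02c_1 : {f // @Cfsg.Agent.H16.NunFiA.inT = f} := ⟨_, by first | (delta Cfsg.Agent.H16.NunFiA.inT; rewrite [Cfsg.Agent.LsF.or_eq]; exact rfl) | exact rfl⟩
private noncomputable def _root_.Cfsg.Agent.LsF.f3da02c_2 : {f // @Cfsg.Agent.H16.NunFiA.fixCk = f} := ⟨_, by first | (delta Cfsg.Agent.H16.NunFiA.fixCk; rewrite [Cfsg.Agent.LsF.f3da02c_0.2, Cfsg.Agent.LsF.f3da02c_1.2, Cfsg.Agent.LsF.or_eq, Cfsg.Agent.LsF.not_eq]; exact rfl) | exact rfl⟩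
theorem fix_ck : ∀ a < 64, ∀ b < 64, fixCk (64 * a + b) = true := by (refine of_decide_eq_true ?_; (try (rewrite [Cfsg.Agent.LsF.f3da02c_2.2, Cfsg.Agent.LsF.nadd_pat, Cfsg.Agent.LsF.nmul_pat, Cfsg.Agent.LsF.dBoolEq_eq, Cfsg.Agent.LsF.dBallLT_eq, Cfsg.Agent.LsF.decide_eq])); decide +kernel)

theorem fix_only {c : ℕ} (hc : c < 4096) (h : lf ML c = c) : inT c = true := by
  have h1 := fix_ck (c / 64) (by omega) (c % 64) (Nat.mod_lt _ (by norm_num))
  rw [Nat.div_add_mod] at h1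
  unfold fixCk at h1
  rw [h, Nat.beq_refl] at h1
  simpa using h1

theorem inT_iff {c : ℕ} : inT c = true ↔ c = 0 ∨ c = 65 ∨ c = 130 ∨ c = 195 := by
  unfold inT
  rw [Bool.or_eq_true, Bool.or_eq_true, Bool.or_eq_true]
  simp only [Nat.beq_eq]

section

variable {F : Type*} [Group F] {z : F} {x y : ℕ → F} {E : Subgroup F}

/-- the product along a word, the first letter acts first -/
def yw (y : ℕ → F) : List ℕ → F
  | [] => 1
  | t :: l => yw y l * y t

theorem yw_z (h : Sys z x y E) : ∀ l : List ℕ, (∀ t ∈ l, t < 6) → yw y l * z = z * yw y l := by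
  intro l
  induction l with
  | nil => intro _; show 1 * z = z * 1; rw [one_mul, mul_one]
  | cons t l ih =>
    intro hl
    show yw y l * y t * z = z * (yw y l * y t)
    rw [mul_assoc, h.yz t (hl t List.mem_cons_self), ← mul_assoc, ih fun s hs => hl s (List.mem_cons_of_mem _ hs), mul_assoc]

theorem yw_act (h : Sys z x y E) : ∀ l : List ℕ, (∀ t ∈ l, t < 6) → ∀ c : ℕ,
    OrbSys.Ez z (yw y l * cod 12 z x c * (yw y l)⁻¹) (cod 12 z x (lfw l c)) := by
  intro l
  induction l with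
  | nil =>
    intro _ c
    left
    show 1 * cod 12 z x c * 1⁻¹ = cod 12 z x c
    rw [one_mul, inv_one, mul_one]
  | cons t l ih =>
    intro hl c
    rw [lfw_cons]
    have hl' : ∀ s ∈ l, s < 6 := fun s hs => hl s (List.mem_cons_of_mem _ hs)
    have h1 := (h.y1 (hl t List.mem_cons_self) c).conj (yw_z h l hl')
    have h2 := h1.trans h.zz (ih hl' _)
    have e : yw y (t :: l) * cod 12 z x c * (yw y (t :: l))⁻¹ =
        yw y l * (y t * cod 12 z x c * (y t)⁻¹) * (yw y l)⁻¹ := by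
      show yw y l * y t * cod 12 z x c * (yw y l * y t)⁻¹ = _
      group
    rw [e]
    exact h2

theorem yw_mem (h : Sys z x y E) : yw y wl ∈ E := by
  have hE : ∀ s t : ℕ, s < 6 → t < 6 → y s * y t ∈ E := fun s t hs ht => h.yE s hs t ht
  have e : yw y wl = (y 0 * y 1) * ((y 2 * y 5) * ((y 3 * y 4) * ((y 5 * y 1) * ((y 0 * y 2) * ((y 1 * y 3) *
      ((y 5 * y 4) * ((y 2 * y 1) * (y 5 * y 3)))))))) := by
    show (((((((((((((((((1 * y 0) * y 1) * y 2) * y 5) * y 3) * y 4) * y 5) * y 1) * y 0) * y 2) * y 1) * y 3) * y 5) *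
      y 4) * y 2) * y 1) * y 5) * y 3 = _
    simp only [one_mul, mul_assoc]
  rw [e]
  refine E.mul_mem (hE _ _ ?_ ?_) (E.mul_mem (hE _ _ ?_ ?_) (E.mul_mem (hE _ _ ?_ ?_) (E.mul_mem (hE _ _ ?_ ?_)
    (E.mul_mem (hE _ _ ?_ ?_) (E.mul_mem (hE _ _ ?_ ?_) (E.mul_mem (hE _ _ ?_ ?_) (E.mul_mem (hE _ _ ?_ ?_)
    (hE _ _ ?_ ?_)))))))) <;> norm_num

theorem wl_lt : ∀ t ∈ wl, t < 6 := by decide

/-- the action of `u` on codes -/
theorem act (h : Sys z x y E) (c : ℕ) :
    OrbSys.Ez z (yw y wl * cod 12 z x c * (yw y wl)⁻¹) (cod 12 z x (lf ML c)) := by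
  have hz := yw_z h wl wl_lt
  have h0 : ∀ i : ℕ, ∃ I : ℕ, i < 12 → yw y wl * x i * (yw y wl)⁻¹ = cod 12 z x I ∧ I % 2 ^ 12 = ML.getD i 0 := by
    intro i
    by_cases hi : i < 12
    · have h1 := yw_act h wl wl_lt (2 ^ i)
      rw [cod_pow hi, ml_ok i hi] at h1
      rcases h1 with h1 | h1
      · exact ⟨ML.getD i 0, fun _ => ⟨h1, Nat.mod_eq_of_lt (ml_lt i hi)⟩⟩
      · refine ⟨ML.getD i 0 ^^^ 2 ^ 12, fun _ => ⟨?_, ?_⟩⟩
        · have h2 := cod_xor_flag h.rel (ML.getD i 0) true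
          rw [if_pos rfl] at h2
          rw [h2, h1]
          rfl
        · exact ml_flag i hi
    · exact ⟨0, fun h => absurd h hi⟩
  choose I hI using h0
  have h1 := conj_lin h.rel Om.tri hz (I := I) (fun i hi => (hI i hi).1) c
  have e : ((List.range 12).map fun i => I i % 2 ^ 12) = ML := by
    have e1 : ((List.range 12).map fun i => I i % 2 ^ 12) = (List.range 12).map fun i => ML.getD i 0 :=
      List.map_congr_left fun i hi => (hI i (List.mem_range.1 hi)).2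
    rw [e1]
    rfl
  rwa [e] at h1

theorem act_pow (h : Sys z x y E) (k : ℕ) : ∀ c : ℕ,
    OrbSys.Ez z ((yw y wl) ^ k * cod 12 z x c * ((yw y wl) ^ k)⁻¹) (cod 12 z x (it k c)) := by
  have hz := yw_z h wl wl_lt
  induction k with
  | zero =>
    intro c
    left
    rw [pow_zero, one_mul, inv_one, mul_one]
    rfl
  | succ k ih =>
    intro c
    rw [it_succ]
    have hzk : (yw y wl) ^ k * z = z * (yw y wl) ^ k := (Commute.pow_left (show Commute (yw y wl) z from hz) k)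
    have h1 := ((act h c).conj hzk).trans h.zz (ih _)
    have e : (yw y wl) ^ (k + 1) * cod 12 z x c * ((yw y wl) ^ (k + 1))⁻¹ =
        (yw y wl) ^ k * (yw y wl * cod 12 z x c * (yw y wl)⁻¹) * ((yw y wl) ^ k)⁻¹ := by
      rw [pow_succ]; group
    rw [e]
    exact h1

theorem comm_z (h : Sys z x y E) {a : F} (ha : a ∈ RG 12 z x) : a * z = z * a := by
  obtain ⟨c, hc, rfl⟩ := (mem_RG h.rel Om.tri).1 ha
  exact cod_comm_z h.rel c

/-- `u ^ 8` acts trivially modulo `z` -/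
theorem triv (h : Sys z x y E) : ∀ a ∈ RG 12 z x, (yw y wl) ^ 8 * a * ((yw y wl) ^ 8)⁻¹ = a ∨
    (yw y wl) ^ 8 * a * ((yw y wl) ^ 8)⁻¹ = a * z := by
  have hz := yw_z h wl wl_lt
  have hzk : (yw y wl) ^ 8 * z = z * (yw y wl) ^ 8 := (Commute.pow_left (show Commute (yw y wl) z from hz) 8)
  set g := (yw y wl) ^ 8 with hg
  have key : ∀ a ∈ RG 12 z x, OrbSys.Ez z (g * a * g⁻¹) a := by
    intro a ha
    have ha' := ha
    rw [RG] at ha
    induction ha using Subgroup.closure_induction with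
    | mem a ha =>
      rcases ha with rfl | ⟨i, hi, rfl⟩
      · left; rw [hzk, mul_inv_cancel_right]
      · have h1 := act_pow h 8 (2 ^ i)
        rwa [cod_pow hi, it_ok i hi, cod_pow hi] at h1
    | one => left; rw [mul_one, mul_inv_cancel]
    | mul a b ha hb iha ihb =>
      have e : g * (a * b) * g⁻¹ = (g * a * g⁻¹) * (g * b * g⁻¹) := by group
      rw [e]
      exact (iha ha).mul h.zz (ihb hb) (comm_z h ha)
    | inv a ha ih =>
      have e : g * a⁻¹ * g⁻¹ = (g * a * g⁻¹)⁻¹ := by group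
      rw [e]
      rcases ih ha with h1 | h1
      · left; rw [h1]
      · right
        rw [h1, mul_inv_rev, inv_eq_of_mul_eq_one_left h.zz]
        have := comm_z h (Subgroup.inv_mem _ ha)
        exact this
  intro a ha
  rcases key a ha with h1 | h1
  · exact Or.inl h1
  · right; rw [h1, comm_z h ha]

/-- the fixed elements -/
theorem fixed (h : Sys z x y E) {a : F} (ha : a ∈ RG 12 z x)
    (hf : yw y wl * a * (yw y wl)⁻¹ = a ∨ yw y wl * a * (yw y wl)⁻¹ = a * z) :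
    inT (Lin.pi 12 z x a) = true := by
  apply fix_only (h.dt.pi_lt a)
  have h1 := h.ez_pi ha
  have h2 := (h1.conj (yw_z h wl wl_lt)).trans h.zz (act h _)
  have h3 : OrbSys.Ez z (yw y wl * a * (yw y wl)⁻¹) a := by
    rcases hf with h4 | h4
    · exact Or.inl h4
    · exact Or.inr (by rw [h4, comm_z h ha])
  have h4 := (h3.symm h.zz).trans h.zz h2
  have hlt : lf ML (Lin.pi 12 z x a) < 4096 := by
    refine lf_lt (n := 12) ML ?_ _
    decide
  exact (h.pi_of hlt h4).symm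

/-! ### The subgroup `T` of order 8 -/

theorem xor_inT {a b : ℕ} (ha : inT a = true) (hb : inT b = true) : inT (a ^^^ b) = true := by
  rw [inT_iff] at ha hb
  rcases ha with rfl | rfl | rfl | rfl <;> rcases hb with rfl | rfl | rfl | rfl <;> decide

/-- the subgroup of the codes `0, 65, 130, 195` -/
def TT (h : Sys z x y E) : Subgroup F where
  carrier := {g | g ∈ RG 12 z x ∧ inT (Lin.pi 12 z x g) = true}
  one_mem' := by
    refine ⟨Subgroup.one_mem _, ?_⟩
    rw [h.pi_of (c := 0) (by norm_num) (Or.inl cod_zero.symm)]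
    rfl
  mul_mem' := by
    rintro a b ⟨ha, ha'⟩ ⟨hb, hb'⟩
    exact ⟨Subgroup.mul_mem _ ha hb, by rw [h.dt.pi_mul ha hb]; exact xor_inT ha' hb'⟩
  inv_mem' := by
    rintro a ⟨ha, ha'⟩
    refine ⟨Subgroup.inv_mem _ ha, ?_⟩
    have h1 := h.dt.pi_mul ha (Subgroup.inv_mem _ ha)
    rw [mul_inv_cancel, h.pi_of (c := 0) (by norm_num) (Or.inl cod_zero.symm)] at h1
    have h2 : Lin.pi 12 z x a⁻¹ = Lin.pi 12 z x a := (Nat.xor_eq_zero_iff.1 h1.symm).symm
    rw [h2]
    exact ha'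

theorem card_TT (h : Sys z x y E) : Nat.card (TT h) = 8 := by
  classical
  have h1 : (TT h : Set F) = ((([0, 65, 130, 195, 4096, 4161, 4226, 4291] : List ℕ).toFinset.image (cod 12 z x) : Finset F) : Set F) := by
    ext a
    rw [Finset.coe_image, Set.mem_image]
    constructor
    · rintro ⟨ha, ha'⟩
      obtain ⟨c, hc, rfl⟩ := (mem_RG h.rel Om.tri).1 ha
      refine ⟨c, ?_, rfl⟩
      rw [Lin.pi, h.dt.code_cod hc, inT_iff] at ha'
      norm_num at hc ha'
      simp only [List.coe_toFinset, List.mem_cons, List.not_mem_nil, or_false, Set.mem_ofPred_eq]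
      omega
    · rintro ⟨c, hc, rfl⟩
      simp only [List.coe_toFinset, List.mem_cons, List.not_mem_nil, or_false, Set.mem_ofPred_eq] at hc
      refine ⟨cod_mem c, ?_⟩
      rw [Lin.pi, h.dt.code_cod (by norm_num; omega), inT_iff]
      norm_num
      omega
  have h2 : Nat.card (TT h) = (TT h : Set F).ncard := rfl
  rw [h2, h1, Set.ncard_coe_finset, Finset.card_image_of_injOn]
  · decide
  · intro c hc d hd he
    simp only [List.coe_toFinset, List.mem_cons, List.not_mem_nil, or_false, Set.mem_ofPred_eq] at hc hd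
    exact cod_injOn h.rel Om.tri Om.nondeg h.z1 (by norm_num; omega) (by norm_num; omega) he

theorem mem_TT_of_ez (h : Sys z x y E) {a : F} {c : ℕ} (hc : inT c = true) (hac : OrbSys.Ez z a (cod 12 z x c)) :
    a ∈ TT h := by
  have hc' : c < 4096 := by
    rcases inT_iff.1 hc with rfl | rfl | rfl | rfl <;> norm_num
  refine ⟨?_, ?_⟩
  · rcases hac with h1 | h1
    · rw [h1]; exact cod_mem c
    · rw [h1]; exact Subgroup.mul_mem _ h.dt.z_mem (cod_mem c)
  · rw [h.pi_of hc' hac]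
    exact hc

/-- the elements of `T` -/
theorem cases_TT (h : Sys z x y E) {a : F} (ha : a ∈ TT h) (h1 : a ≠ 1) (hz : a ≠ z) :
    OrbSys.Ez z a (x 0 * x 6) ∨ OrbSys.Ez z a (x 1 * x 7) ∨ OrbSys.Ez z a ((x 0 * x 1) * (x 6 * x 7)) := by
  have h2 := h.ez_pi ha.1
  have hp : ∀ i j : ℕ, i < 12 → j < 12 → OrbSys.Ez z (x i * x j) (cod 12 z x (2 ^ i ^^^ 2 ^ j)) := by
    intro i j hi hj
    have h3 := ez_mul h.rel Om.tri (2 ^ i) (2 ^ j)
    rwa [cod_pow hi, cod_pow hj] at h3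
  have e65 : OrbSys.Ez z (x 0 * x 6) (cod 12 z x 65) := hp 0 6 (by norm_num) (by norm_num)
  have e130 : OrbSys.Ez z (x 1 * x 7) (cod 12 z x 130) := hp 1 7 (by norm_num) (by norm_num)
  have e195 : OrbSys.Ez z ((x 0 * x 1) * (x 6 * x 7)) (cod 12 z x 195) :=
    ((hp 0 1 (by norm_num) (by norm_num)).mul h.zz (hp 6 7 (by norm_num) (by norm_num)) (cod_comm_z h.rel _)).trans
      h.zz (ez_mul h.rel Om.tri _ _)
  rcases inT_iff.1 ha.2 with h3 | h3 | h3 | h3
  · exfalso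
    rw [h3, cod_zero] at h2
    rcases h2 with h2 | h2
    · exact h1 h2
    · exact hz (by rw [h2, mul_one])
  · rw [h3] at h2; exact Or.inl (h2.trans h.zz (e65.symm h.zz))
  · rw [h3] at h2; exact Or.inr (Or.inl (h2.trans h.zz (e130.symm h.zz)))
  · rw [h3] at h2; exact Or.inr (Or.inr (h2.trans h.zz (e195.symm h.zz)))

end

end Cfsg.Agent.H16.NunFiA
end

-- part: H16/NunFi24
section
/-!
# `NUN` for `Fi24'` (helper16)

`nun : NUN Spor.Fi24'`: the group `⟨u⟩` of order 8 modulo `R = O₂(C(z))` fixes a line `T/⟨z⟩` of `R/⟨z⟩`, and for every element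
of `T` outside `⟨z⟩` there is a product of two transpositions normalising `T` and moving `z` to it.
-/

set_option autoImplicit false
set_option maxRecDepth 100000

namespace Cfsg.Agent.H16.NunFi24

open Subgroup Cfsg Cfsg.Agent.UniqLoc Cfsg.Agent.Co2Type.Quad Cfsg.Agent.KFacts.LargeO2
open Cfsg.Agent.KFacts.Codes Cfsg.Agent.KFacts.FiTF Cfsg.Agent.H16.NunFiA

/-! ### From the frame -/

section

variable {F : Type*} [Group F] {K : Subgroup F} {z : F} {x y : ℕ → F} {E : Subgroup F} {Om : Set F}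

theorem largeK (h : Frame K z (RG 12 z x) E Om) : Large ((RG 12 z x).subgroupOf K) (Abs.zK h) := by
  have hL := Abs.large h
  have hRK : RG 12 z x ≤ K := h.RE.trans h.EK
  exact
  { z_mem := mem_subgroupOf.2 hL.z_mem
    z_ne := fun e => hL.z_ne (congrArg Subtype.val e)
    z_sq := Subtype.ext hL.z_sq
    comm_z := fun q hq => Subtype.ext (hL.comm_z q (mem_subgroupOf.1 hq))
    conj_mem := fun g hg q hq => mem_subgroupOf.2 (hL.conj_mem g (congrArg Subtype.val hg) q (mem_subgroupOf.1 hq))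
    sq := fun q hq => (hL.sq q (mem_subgroupOf.1 hq)).imp (fun e => Subtype.ext e) (fun e => Subtype.ext e)
    comm := fun a ha b hb => (hL.comm a (mem_subgroupOf.1 ha) b (mem_subgroupOf.1 hb)).imp
      (fun e => Subtype.ext e) (fun e => Subtype.ext e)
    cent := fun a ha hc => (hL.cent a (mem_subgroupOf.1 ha) (fun b hb =>
      congrArg Subtype.val (hc ⟨b, hRK hb⟩ (mem_subgroupOf.2 hb)))).imp (fun e => Subtype.ext e) (fun e => Subtype.ext e)
    self := fun g hg hc => mem_subgroupOf.2 (hL.self g (congrArg Subtype.val hg) fun b hb =>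
      congrArg Subtype.val (hc ⟨b, hRK hb⟩ (mem_subgroupOf.2 hb))) }

theorem irrK (h : Frame K z (RG 12 z x) E Om) : Irr ((RG 12 z x).subgroupOf K) (Abs.zK h) := by
  have hRK : RG 12 z x ≤ K := h.RE.trans h.EK
  intro N hN hinv
  have hle : N.map K.subtype ≤ RG 12 z x := by
    rintro _ ⟨a, ha, rfl⟩
    exact mem_subgroupOf.1 (hN ha)
  rcases h.irr (N.map K.subtype) hle (by
    rintro g hg _ ⟨a, ha, rfl⟩
    exact ⟨⟨g, h.EK hg⟩ * a * ⟨g, h.EK hg⟩⁻¹, hinv ⟨g, h.EK hg⟩ (Subtype.ext (h.Ez g hg)) a ha, rfl⟩) with h1 | h1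
  · left
    intro a ha
    exact (h1 a ⟨a, ha, rfl⟩).imp (fun e => Subtype.ext e) (fun e => Subtype.ext e)
  · right
    refine le_antisymm hN fun q hq => ?_
    have h2 : (q : F) ∈ N.map K.subtype := by rw [h1]; exact mem_subgroupOf.1 hq
    obtain ⟨a, ha, e⟩ := h2
    have : a = q := Subtype.ext e
    rwa [this] at ha

/-- **`NUN` from the frame and the elements moving `z` inside `T`.** -/
theorem nun_of_frame [Finite F] (h : Frame K z (RG 12 z x) E Om) (hs : OrbSys.Sys z x y E)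
    (hn : ∀ u ∈ TT hs, u ≠ 1 → u ≠ z → ∃ n ∈ K, (n * z * n⁻¹ = u ∨ n * z * n⁻¹ = u * z) ∧
      (n * u * n⁻¹ = z ∨ n * u * n⁻¹ = u ∨ n * u * n⁻¹ = u * z) ∧ ∀ t ∈ TT hs, n * t * n⁻¹ ∈ TT hs) : NUN K := by
  have hRK : RG 12 z x ≤ K := h.RE.trans h.EK
  have hL := largeK h
  have hTR : TT hs ≤ RG 12 z x := fun _ ht => ht.1
  set u : F := yw y wl with hu
  have huE : u ∈ E := yw_mem hs
  have huz : u * z = z * u := h.Ez u huE
  have hu8 : u ^ 8 ∈ RG 12 z x := by
    have : Finite (RG 12 z x) := inferInstance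
    exact mem_of_triv (Abs.large h) (Commute.pow_left (show Commute u z from huz) 8) (NunFiA.triv hs)
  have hu32 : u ^ (2 ^ 5) = 1 := by
    have h1 : (u ^ 8 * u ^ 8) * (u ^ 8 * u ^ 8) = 1 := by
      rcases (Abs.large h).sq _ hu8 with h2 | h2 <;> rw [h2]
      · rw [one_mul]
      · exact hs.zz
    rw [← h1]
    norm_num
    rw [← pow_add, ← pow_add]
  let uK : K := ⟨u, h.EK huE⟩
  have hW : IsPGroup 2 (zpowers uK) := by
    rintro ⟨w, hw⟩
    obtain ⟨k, rfl⟩ := mem_zpowers_iff.1 hw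
    refine ⟨5, Subtype.ext ?_⟩
    show (uK ^ k) ^ (2 ^ 5) = 1
    have h1 : uK ^ (2 ^ 5) = 1 := Subtype.ext hu32
    rw [← zpow_natCast, ← zpow_mul, mul_comm, zpow_mul, zpow_natCast, h1, one_zpow]
  refine NunLarge.nun_of_line (T := (TT hs).subgroupOf K) hL (irrK h) (Abs.odd_index h).not_two_dvd_nat hW ?_ ?_ ?_ ?_ ?_
  · intro w hw
    obtain ⟨k, rfl⟩ := mem_zpowers_iff.1 hw
    exact (Commute.zpow_left (show Commute uK (Abs.zK h) from Subtype.ext huz) k)
  · obtain ⟨a, ha, h1, h2⟩ := Abs.exists_nontriv h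
    exact ⟨⟨a, hRK ha⟩, mem_subgroupOf.2 ha, fun e => h1 (congrArg Subtype.val e), fun e => h2 (congrArg Subtype.val e)⟩
  · rw [Nat.card_congr (Subgroup.subgroupOfEquivOfLe (hTR.trans hRK)).toEquiv]
    exact card_TT hs
  · intro a ha hf
    refine mem_subgroupOf.2 ⟨mem_subgroupOf.1 ha, fixed hs (mem_subgroupOf.1 ha) ?_⟩
    exact (hf uK (mem_zpowers uK)).imp (fun e => congrArg Subtype.val e) (fun e => congrArg Subtype.val e)
  · intro a ha ha1 haz
    obtain ⟨n, hnK, h1, h2, h3⟩ := hn a (mem_subgroupOf.1 ha) (fun e => ha1 (Subtype.ext e)) (fun e => haz (Subtype.ext e))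
    refine ⟨⟨n, hnK⟩, h1.imp (fun e => Subtype.ext e) (fun e => Subtype.ext e), ?_, ?_⟩
    · rcases h2 with h2 | h2 | h2
      · exact Or.inl (Subtype.ext h2)
      · exact Or.inr (Or.inl (Subtype.ext h2))
      · exact Or.inr (Or.inr (Subtype.ext h2))
    · intro t ht
      exact mem_subgroupOf.2 (h3 t (mem_subgroupOf.1 ht))

end

/-! ### The elements -/

open Cfsg.Spor (Fi24)
open Cfsg.Spor.Fi24 (Gen)
open Cfsg.Agent.Lib.PermNet Cfsg.Agent.Lib.PermNetPt Cfsg.Agent.Fischer.Fi24RepDef Cfsg.Agent.Fischer.Fi24Rep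
open Cfsg.Agent.KFacts.FiTF.Defs Cfsg.Agent.KFacts.FiTF.Pts Cfsg.Agent.KFacts.FiTF.Tet
open Cfsg.Agent.Fischer.Fi24Spider (word_append)

/-- the two words of the element number `k` -/
def wa : ℕ → List Gen
  | 0 => [.d, .h, .i, .f, .e, .d, .h, .g, .f, .e, .d, .b, .c, .a, .b, .k, .a, .l, .k]
  | 1 => [.g, .f, .e, .d, .h, .i, .c, .d, .h, .e, .d, .c, .b, .k, .a, .l, .k]
  | _ => [.g, .f, .e, .d, .h, .i, .e, .c, .d, .h, .f, .e, .d, .c, .b, .k, .a, .l, .k]

def wb : ℕ → List Gen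
  | 0 => [.c, .d, .h, .i, .f, .e, .d, .h, .j, .g, .f, .e, .d, .b, .c, .a, .b, .k, .a, .l, .k]
  | 1 => [.j, .g, .f, .e, .d, .h, .i, .c, .d, .h, .e, .d, .c, .a, .b, .k, .a, .l, .k]
  | _ => [.j, .g, .f, .e, .d, .h, .i, .e, .c, .d, .h, .f, .e, .d, .c, .a, .b, .k, .a, .l, .k]

/-- the word of the element number `k` -/
def wn (k : ℕ) : List Gen := (wa k ++ .l :: (wa k).reverse) ++ (wb k ++ .l :: (wb k).reverse)

/-- the element number `k`, a product of two transpositions -/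
def nn (k : ℕ) : Fi24 := word (wn k)

theorem nn_mem (k : ℕ) : nn k ∈ commutator Spor.Fi24 := by
  unfold nn wn
  rw [word_append]
  exact Cfsg.Agent.R08.FiTwentyFour.even (tr_mem (wa k) .l) (tr_mem (wb k) .l)

/-- the images of the points of the tetrads 0 and 3 (`4 * (0 or 1) + i`) -/
def img : ℕ → List ℕ
  | 0 => [0, 1, 4, 5, 2, 3, 6, 7]
  | 1 => [0, 4, 2, 6, 1, 5, 3, 7]
  | _ => [0, 4, 7, 3, 1, 5, 6, 2]

/-- the eight transpositions -/
def e (j : ℕ) : Fi24 := D (3 * (j / 4)) (j % 4)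

def q (j : ℕ) : ℕ := P (3 * (j / 4)) (j % 4)

theorem chk_img : ∀ k < 3, ∀ j < 8, chkPt (nw (wn k) false) (q j) (q ((img k).getD j 0)) = true := by
  decide +kernel

theorem isPt_e {j : ℕ} (hj : j < 8) : IsPt (e j) (q j) := by
  apply isPt
  · omega
  · exact Nat.mod_lt _ (by norm_num)

theorem img_lt : ∀ k < 3, ∀ j < 8, (img k).getD j 0 < 8 := by decide

theorem conj_e {k j : ℕ} (hk : k < 3) (hj : j < 8) : nn k * e j * (nn k)⁻¹ = e ((img k).getD j 0) :=
  (isPt_e hj).conj_eq (isPt_e (img_lt k hk j hj)) (rho_of_chkPt (chk_img k hk j hj))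

/-- the word of `e j` -/
theorem chk_comm : ∀ i < 4, ∀ j < 4, chkPt (nw (wD 0 i) false) (P 3 j) (P 3 j) = true := by
  decide +kernel

theorem comm03 {i j : ℕ} (hi : i < 4) (hj : j < 4) : D 0 i * D 3 j = D 3 j * D 0 i :=
  ((isPt (t := 3) (by norm_num) hj).comm_iff (D 0 i)).2 (by
    rw [← word_wD]; exact rho_of_chkPt (chk_comm i hi j hj))

/-- images of products -/
theorem conj_mul4 {k : ℕ} (hk : k < 3) {a b c d : ℕ} (ha : a < 8) (hb : b < 8) (hc : c < 8) (hd : d < 8) :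
    nn k * (e a * e b * e c * e d) * (nn k)⁻¹ =
      e ((img k).getD a 0) * e ((img k).getD b 0) * e ((img k).getD c 0) * e ((img k).getD d 0) := by
  rw [← conj_e hk ha, ← conj_e hk hb, ← conj_e hk hc, ← conj_e hk hd]
  group

theorem z_a : z = e 0 * e 1 * e 2 * e 3 := (prod_D 0 (by norm_num)).symm
theorem x06 : x 0 * x 6 = e 0 * e 1 * e 4 * e 5 := by
  show (D 0 0 * D 0 1) * (D 3 0 * D 3 1) = D 0 0 * D 0 1 * D 3 0 * D 3 1
  rw [← mul_assoc]

theorem x17 : x 1 * x 7 = e 0 * e 2 * e 4 * e 6 := by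
  show (D 0 0 * D 0 2) * (D 3 0 * D 3 2) = D 0 0 * D 0 2 * D 3 0 * D 3 2
  rw [← mul_assoc]

theorem ee {i j : ℕ} (hi : i < 8) (hj : j < 8) : e i * e j = e j * e i := by
  unfold e
  have h1 : i / 4 = 0 ∨ i / 4 = 1 := by omega
  have h2 : j / 4 = 0 ∨ j / 4 = 1 := by omega
  have h3 : i % 4 < 4 := Nat.mod_lt _ (by norm_num)
  have h4 : j % 4 < 4 := Nat.mod_lt _ (by norm_num)
  rcases h1 with h1 | h1 <;> rcases h2 with h2 | h2 <;> rw [h1, h2]
  · exact D_comm (by norm_num) h3 h4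
  · exact comm03 h3 h4
  · exact (comm03 h4 h3).symm
  · exact D_comm (by norm_num) h3 h4

theorem e_sq {i : ℕ} (_ : i < 8) : e i * e i = 1 :=
  D_sq (by omega) (Nat.mod_lt _ (by norm_num))

theorem swap4 {a b c d : ℕ} (hb : b < 8) (hc : c < 8) : e a * e b * e c * e d = e a * e c * e b * e d := by
  rw [mul_assoc (e a), ee hb hc, ← mul_assoc]

theorem swap4' {a b c d : ℕ} (hc : c < 8) (hd : d < 8) : e a * e b * e c * e d = e a * e b * e d * e c := by
  rw [mul_assoc (e a * e b), ee hc hd, ← mul_assoc]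

/-- the third class -/
theorem x0167 : (x 0 * x 1) * (x 6 * x 7) = e 1 * e 2 * e 5 * e 6 := by
  have h1 : x 0 * x 1 = e 1 * e 2 := by
    show (e 0 * e 1) * (e 0 * e 2) = e 1 * e 2
    rw [ee (i := 0) (j := 1) (by norm_num) (by norm_num)]
    calc e 1 * e 0 * (e 0 * e 2) = e 1 * (e 0 * e 0) * e 2 := by group
      _ = e 1 * e 2 := by rw [e_sq (by norm_num), mul_one]
  have h2 : x 6 * x 7 = e 5 * e 6 := by
    show (e 4 * e 5) * (e 4 * e 6) = e 5 * e 6
    rw [ee (i := 4) (j := 5) (by norm_num) (by norm_num)]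
    calc e 5 * e 4 * (e 4 * e 6) = e 5 * (e 4 * e 4) * e 6 := by group
      _ = e 5 * e 6 := by rw [e_sq (by norm_num), mul_one]
  rw [h1, h2, ← mul_assoc]

theorem e12 : e 1 * e 2 = z * (e 0 * e 3) := compl12 (t := 0) (by norm_num)
theorem e56 : e 5 * e 6 = z * (e 4 * e 7) := compl12 (t := 3) (by norm_num)
theorem e67 : e 6 * e 7 = z * (e 4 * e 5) := compl23 (t := 3) (by norm_num)

theorem z_e (i : ℕ) (_ : i < 8) : z * e i = e i * z := z_D (by omega) (Nat.mod_lt _ (by norm_num))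

theorem zz : z * z = 1 := Tet.zz

/-- `e 0 e 4 e 7 e 3` -/
theorem third : e 0 * e 4 * e 7 * e 3 = e 1 * e 2 * e 5 * e 6 := by
  have h1 : e 1 * e 2 * e 5 * e 6 = (e 1 * e 2) * (e 5 * e 6) := by group
  have h2 : e 0 * e 4 * e 7 * e 3 = (e 0 * e 3) * (e 4 * e 7) := by
    rw [swap4' (a := 0) (b := 4) (c := 7) (d := 3) (by norm_num) (by norm_num),
      swap4 (a := 0) (b := 4) (c := 3) (d := 7) (by norm_num) (by norm_num)]
    group
  have h3 : e 0 * e 3 * z = z * (e 0 * e 3) := by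
    rw [mul_assoc, ← z_e 3 (by norm_num), ← mul_assoc, ← z_e 0 (by norm_num), mul_assoc]
  rw [h1, h2, e12, e56]
  calc e 0 * e 3 * (e 4 * e 7) = (z * z) * (e 0 * e 3) * (e 4 * e 7) := by rw [zz, one_mul]
    _ = z * (z * (e 0 * e 3)) * (e 4 * e 7) := by group
    _ = z * (e 0 * e 3 * z) * (e 4 * e 7) := by rw [h3]
    _ = z * (e 0 * e 3) * (z * (e 4 * e 7)) := by group

open Cfsg.Agent.KFacts.FiTF.OrbSys (Ez)

theorem ez_TT {a b : Fi24} (h : Ez z a b) (hb : b ∈ TT RQ.sys) : a ∈ TT RQ.sys := by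
  have hz : z ∈ TT RQ.sys := mem_TT_of_ez RQ.sys (c := 0) (by decide) (Or.inr (by rw [cod_zero, mul_one]))
  rcases h with h | h
  · rw [h]; exact hb
  · rw [h]; exact (TT RQ.sys).mul_mem hz hb

theorem z_TT : z ∈ TT RQ.sys :=
  mem_TT_of_ez RQ.sys (c := 0) (by decide) (Or.inr (by rw [cod_zero, mul_one]))

theorem pair (i j : ℕ) (hi : i < 12) (hj : j < 12) : Ez z (x i * x j) (cod 12 z x (2 ^ i ^^^ 2 ^ j)) := by
  have h3 := OrbSys.ez_mul RQ.sys.rel Om.tri (2 ^ i) (2 ^ j)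
  rwa [cod_pow hi, cod_pow hj] at h3

theorem v1_TT : x 0 * x 6 ∈ TT RQ.sys :=
  mem_TT_of_ez RQ.sys (c := 65) (by decide) (pair 0 6 (by norm_num) (by norm_num))

theorem v2_TT : x 1 * x 7 ∈ TT RQ.sys :=
  mem_TT_of_ez RQ.sys (c := 130) (by decide) (pair 1 7 (by norm_num) (by norm_num))

theorem v3_ez : Ez z ((x 0 * x 1) * (x 6 * x 7)) ((x 0 * x 6) * (x 1 * x 7)) := by
  have h1 : Ez z ((x 0 * x 1) * (x 6 * x 7)) (cod 12 z x 195) :=
    ((pair 0 1 (by norm_num) (by norm_num)).mul zz (pair 6 7 (by norm_num) (by norm_num))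
      (OrbSys.cod_comm_z RQ.sys.rel _)).trans zz (OrbSys.ez_mul RQ.sys.rel Om.tri _ _)
  have h2 : Ez z ((x 0 * x 6) * (x 1 * x 7)) (cod 12 z x 195) :=
    ((pair 0 6 (by norm_num) (by norm_num)).mul zz (pair 1 7 (by norm_num) (by norm_num))
      (OrbSys.cod_comm_z RQ.sys.rel _)).trans zz (OrbSys.ez_mul RQ.sys.rel Om.tri _ _)
  exact h1.trans zz (h2.symm zz)

/-- an element normalises `T` if it maps three generators into `T` -/
theorem norm_TT {n : Fi24} (h0 : n * z * n⁻¹ ∈ TT RQ.sys) (h1 : n * (x 0 * x 6) * n⁻¹ ∈ TT RQ.sys)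
    (h2 : n * (x 1 * x 7) * n⁻¹ ∈ TT RQ.sys) : ∀ t ∈ TT RQ.sys, n * t * n⁻¹ ∈ TT RQ.sys := by
  have hez : ∀ a b : Fi24, Ez z a b → n * b * n⁻¹ ∈ TT RQ.sys → n * a * n⁻¹ ∈ TT RQ.sys := by
    intro a b h hb
    rcases h with h | h
    · rw [h]; exact hb
    · rw [h]
      have e : n * (z * b) * n⁻¹ = (n * z * n⁻¹) * (n * b * n⁻¹) := by group
      rw [e]
      exact (TT RQ.sys).mul_mem h0 hb
  intro t ht
  by_cases ht1 : t = 1
  · rw [ht1, mul_one, mul_inv_cancel]; exact (TT RQ.sys).one_mem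
  by_cases htz : t = z
  · rw [htz]; exact h0
  rcases cases_TT RQ.sys ht ht1 htz with h | h | h
  · exact hez _ _ h h1
  · exact hez _ _ h h2
  · refine hez _ _ (h.trans zz v3_ez) ?_
    have e : n * (x 0 * x 6 * (x 1 * x 7)) * n⁻¹ = (n * (x 0 * x 6) * n⁻¹) * (n * (x 1 * x 7) * n⁻¹) := by group
    rw [e]
    exact (TT RQ.sys).mul_mem h1 h2

/-! ### The three elements -/

theorem n0_z : nn 0 * z * (nn 0)⁻¹ = x 0 * x 6 := by
  rw [x06]
  conv_lhs => rw [z_a]
  exact conj_mul4 (k := 0) (by norm_num) (by norm_num) (by norm_num) (by norm_num) (by norm_num)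

theorem n0_v1 : nn 0 * (x 0 * x 6) * (nn 0)⁻¹ = z := by
  rw [x06, conj_mul4 (k := 0) (by norm_num) (by norm_num) (by norm_num) (by norm_num) (by norm_num)]
  exact z_a.symm

theorem n0_v2 : nn 0 * (x 1 * x 7) * (nn 0)⁻¹ = x 1 * x 7 := by
  rw [x17, conj_mul4 (k := 0) (by norm_num) (by norm_num) (by norm_num) (by norm_num) (by norm_num)]
  exact swap4 (a := 0) (b := 4) (c := 2) (d := 6) (by norm_num) (by norm_num)

theorem n1_z : nn 1 * z * (nn 1)⁻¹ = x 1 * x 7 := by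
  rw [x17]
  conv_lhs => rw [z_a]
  rw [conj_mul4 (k := 1) (by norm_num) (by norm_num) (by norm_num) (by norm_num) (by norm_num)]
  exact swap4 (a := 0) (b := 4) (c := 2) (d := 6) (by norm_num) (by norm_num)

theorem n1_v2 : nn 1 * (x 1 * x 7) * (nn 1)⁻¹ = z := by
  rw [x17, conj_mul4 (k := 1) (by norm_num) (by norm_num) (by norm_num) (by norm_num) (by norm_num), z_a]
  exact swap4 (a := 0) (b := 2) (c := 1) (d := 3) (by norm_num) (by norm_num)

theorem n1_v1 : nn 1 * (x 0 * x 6) * (nn 1)⁻¹ = x 0 * x 6 := by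
  rw [x06, conj_mul4 (k := 1) (by norm_num) (by norm_num) (by norm_num) (by norm_num) (by norm_num)]
  exact swap4 (a := 0) (b := 4) (c := 1) (d := 5) (by norm_num) (by norm_num)

theorem n2_z : nn 2 * z * (nn 2)⁻¹ = (x 0 * x 1) * (x 6 * x 7) := by
  rw [x0167, ← third]
  conv_lhs => rw [z_a]
  exact conj_mul4 (k := 2) (by norm_num) (by norm_num) (by norm_num) (by norm_num) (by norm_num)

theorem n2_v3 : nn 2 * ((x 0 * x 1) * (x 6 * x 7)) * (nn 2)⁻¹ = z := by
  rw [x0167, conj_mul4 (k := 2) (by norm_num) (by norm_num) (by norm_num) (by norm_num) (by norm_num)]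
  show e 4 * e 7 * e 5 * e 6 = z
  have h1 : e 4 * e 7 * e 5 * e 6 = (e 4 * e 7) * (e 5 * e 6) := by group
  have h2 : (e 5 * e 6) * (e 5 * e 6) = 1 := by
    calc (e 5 * e 6) * (e 5 * e 6) = e 5 * (e 6 * e 5) * e 6 := by group
      _ = e 5 * (e 5 * e 6) * e 6 := by rw [ee (i := 6) (j := 5) (by norm_num) (by norm_num)]
      _ = (e 5 * e 5) * (e 6 * e 6) := by group
      _ = 1 := by rw [e_sq (by norm_num), e_sq (by norm_num), mul_one]
  have h3 : e 4 * e 7 = z * (e 5 * e 6) := by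
    rw [e56, ← mul_assoc, zz, one_mul]
  rw [h1, h3, mul_assoc, h2, mul_one]

theorem n2_v1 : nn 2 * (x 0 * x 6) * (nn 2)⁻¹ = x 0 * x 6 := by
  rw [x06, conj_mul4 (k := 2) (by norm_num) (by norm_num) (by norm_num) (by norm_num) (by norm_num)]
  exact swap4 (a := 0) (b := 4) (c := 1) (d := 5) (by norm_num) (by norm_num)

theorem n2_v2 : nn 2 * (x 1 * x 7) * (nn 2)⁻¹ = z * (x 0 * x 6) := by
  rw [x17, conj_mul4 (k := 2) (by norm_num) (by norm_num) (by norm_num) (by norm_num) (by norm_num), x06]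
  show e 0 * e 7 * e 1 * e 6 = z * (e 0 * e 1 * e 4 * e 5)
  rw [swap4 (a := 0) (b := 7) (c := 1) (d := 6) (by norm_num) (by norm_num),
    swap4' (a := 0) (b := 1) (c := 7) (d := 6) (by norm_num) (by norm_num)]
  have h1 : e 0 * e 1 * e 6 * e 7 = (e 0 * e 1) * (e 6 * e 7) := by group
  have h3 : e 0 * e 1 * z = z * (e 0 * e 1) := by
    rw [mul_assoc, ← z_e 1 (by norm_num), ← mul_assoc, ← z_e 0 (by norm_num), mul_assoc]
  rw [h1, e67]
  calc (e 0 * e 1) * (z * (e 4 * e 5)) = (e 0 * e 1 * z) * (e 4 * e 5) := by group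
    _ = z * (e 0 * e 1 * e 4 * e 5) := by rw [h3]; group

/-- moving `z` to `v` -/
theorem move {n v u : Fi24} (hv : v ∈ TT RQ.sys) (h1 : n * z * n⁻¹ = v) (h2 : n * v * n⁻¹ = z) (hu : Ez z u v) :
    (n * z * n⁻¹ = u ∨ n * z * n⁻¹ = u * z) ∧ (n * u * n⁻¹ = z ∨ n * u * n⁻¹ = u ∨ n * u * n⁻¹ = u * z) := by
  have hvz : v * z = z * v := comm_z RQ.sys hv.1
  rcases hu with rfl | rfl
  · exact ⟨Or.inl h1, Or.inl h2⟩
  · have e1 : z * v * z = v := by rw [mul_assoc, hvz, ← mul_assoc, zz, one_mul]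
    refine ⟨Or.inr (by rw [h1, e1]), Or.inr (Or.inl ?_)⟩
    have e : n * (z * v) * n⁻¹ = (n * z * n⁻¹) * (n * v * n⁻¹) := by group
    rw [e, h1, h2, hvz]

/-- **`NUN` for `Fi24'`.** -/
theorem nun : NUN Spor.Fi24' := by
  have : Finite Spor.Fi24 := Cfsg.Agent.R08.FiTwentyFour.finite_Fi24
  refine nun_of_frame (K := commutator Spor.Fi24) (z := z) (x := x) (E := E) frame RQ.sys ?_
  intro u hu hu1 huz
  rcases cases_TT RQ.sys hu hu1 huz with h | h | h
  · obtain ⟨h1, h2⟩ := move v1_TT n0_z n0_v1 h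
    exact ⟨nn 0, nn_mem 0, h1, h2, norm_TT (by rw [n0_z]; exact v1_TT) (by rw [n0_v1]; exact z_TT)
      (by rw [n0_v2]; exact v2_TT)⟩
  · obtain ⟨h1, h2⟩ := move v2_TT n1_z n1_v2 h
    exact ⟨nn 1, nn_mem 1, h1, h2, norm_TT (by rw [n1_z]; exact v2_TT) (by rw [n1_v1]; exact v1_TT)
      (by rw [n1_v2]; exact z_TT)⟩
  · have hv3 : (x 0 * x 1) * (x 6 * x 7) ∈ TT RQ.sys := ez_TT v3_ez ((TT RQ.sys).mul_mem v1_TT v2_TT)
    obtain ⟨h1, h2⟩ := move hv3 n2_z n2_v3 h
    exact ⟨nn 2, nn_mem 2, h1, h2, norm_TT (by rw [n2_z]; exact hv3) (by rw [n2_v1]; exact v1_TT)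
      (by rw [n2_v2]; exact (TT RQ.sys).mul_mem z_TT v1_TT)⟩

end Cfsg.Agent.H16.NunFi24
end
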